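import Groth.Agent.Picfga.ProjTwist
import Groth.Agent.PerfB.ProjSpaceCover
import Groth.Prelude.Def_CohB1

/-!
# Ratio functions of forms on a projective scheme

`exists_ratios`: a closed subscheme `Q` of `P^d_k` has, subordinate to any open cover, a finite cover by affine
opens `U j = {f_j ≠ 0}` (`f_j` forms of one common positive degree) with ratio functions `t i j = f_i / f_j`.
-/

set_option autoImplicit false
set_option backward.isDefEq.respectTransparency false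

universe u

open CategoryTheory CategoryTheory.Limits AlgebraicGeometry TopologicalSpace Opposite
open Groth.Agent.Picfga.ProjGlue Groth.Agent.Fdesc.LocGen

namespace Groth.Agent.AlgGrp.K759.Ratios

section graded

variable {A : Type u} {σ : Type*} [CommRing A] [SetLike σ A] [AddSubgroupClass σ A] (𝒜 : ℕ → σ)
  [GradedRing 𝒜]

/-- Homogeneous basic opens of positive degree form a basis (given a cover by such). -/
theorem exists_basicOpen_le (hcov : ∀ x : Proj 𝒜, ∃ (n : ℕ) (g : A), 0 < n ∧ g ∈ 𝒜 n ∧ x ∈ Proj.basicOpen 𝒜 g)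
    (x : Proj 𝒜) (W : (Proj 𝒜).Opens) (hx : x ∈ W) :
    ∃ (n : ℕ) (g : A), 0 < n ∧ g ∈ 𝒜 n ∧ x ∈ Proj.basicOpen 𝒜 g ∧ Proj.basicOpen 𝒜 g ≤ W := by
  obtain ⟨_, ⟨_, ⟨f, rfl⟩, rfl⟩, hxf, hfW⟩ :=
    (Proj.isBasis_basicOpen 𝒜).exists_subset_of_mem_open hx W.2
  have hxf' : x ∈ Proj.basicOpen 𝒜 f := hxf
  rw [Proj.basicOpen_eq_iSup_proj, Opens.mem_iSup] at hxf'
  obtain ⟨i, hi⟩ := hxf'
  obtain ⟨n, g, hn, hg, hxg⟩ := hcov x
  refine ⟨i + n, GradedRing.proj 𝒜 i f * g, by omega, SetLike.mul_mem_graded (SetLike.coe_mem _) hg, ?_, ?_⟩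
  · rw [Proj.basicOpen_mul]
    exact ⟨hi, hxg⟩
  · rw [Proj.basicOpen_mul]
    refine inf_le_left.trans ?_
    refine le_trans ?_ (show Proj.basicOpen 𝒜 f ≤ W from hfW)
    rw [Proj.basicOpen_eq_iSup_proj 𝒜 f]
    exact le_iSup (fun i => Proj.basicOpen 𝒜 (GradedRing.proj 𝒜 i f)) i

variable {𝒜}

theorem aux {Q : Scheme.{u}} [CompactSpace Q] (c : Q ⟶ Proj 𝒜) [IsClosedImmersion c]
    (hcov : ∀ x : Proj 𝒜, ∃ (n : ℕ) (g : A), 0 < n ∧ g ∈ 𝒜 n ∧ x ∈ Proj.basicOpen 𝒜 g)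
    (V : Q → Q.Opens) (hV : ∀ q, q ∈ V q) :
    ∃ (r M : ℕ) (g : Fin r → A) (q : Fin r → Q), 0 < M ∧ (∀ i, g i ∈ 𝒜 M) ∧
      (∀ i, c ⁻¹ᵁ Proj.basicOpen 𝒜 (g i) ≤ V (q i)) ∧ (⨆ i, c ⁻¹ᵁ Proj.basicOpen 𝒜 (g i)) = ⊤ := by
  classical
  have h1 : ∀ q : Q, ∃ (n : ℕ) (g : A), 0 < n ∧ g ∈ 𝒜 n ∧ q ∈ c ⁻¹ᵁ Proj.basicOpen 𝒜 g ∧
      c ⁻¹ᵁ Proj.basicOpen 𝒜 g ≤ V q := by
    intro q
    obtain ⟨W, hW, hWV⟩ := c.isClosedEmbedding.isInducing.isOpen_iff.1 (V q).2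
    obtain ⟨n, g, hn, hg, hq, hle⟩ := exists_basicOpen_le 𝒜 hcov (c q) ⟨W, hW⟩ (by
      have : q ∈ c ⁻¹' W := by rw [hWV]; exact hV q
      exact this)
    refine ⟨n, g, hn, hg, hq, fun y hy => ?_⟩
    have : y ∈ c ⁻¹' W := hle hy
    rw [hWV] at this
    exact this
  choose n g hn hg hq hle using h1
  obtain ⟨s, hs⟩ := isCompact_univ.elim_finite_subcover (fun q : Q => ((c ⁻¹ᵁ Proj.basicOpen 𝒜 (g q) : Q.Opens) : Set Q))
    (fun q => (c ⁻¹ᵁ Proj.basicOpen 𝒜 (g q) : Q.Opens).2) (fun q _ => Set.mem_iUnion.2 ⟨q, hq q⟩)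
  let M : ℕ := ∏ q ∈ s, n q
  have hM : 0 < M := Finset.prod_pos fun q _ => hn q
  have hdvd : ∀ q ∈ s, n q ∣ M := fun q hq => Finset.dvd_prod_of_mem _ hq
  let e := s.equivFin
  refine ⟨s.card, M, fun i => g (e.symm i).1 ^ (M / n (e.symm i).1), fun i => (e.symm i).1, hM, fun i => ?_,
    fun i => ?_, ?_⟩
  · have h2 := SetLike.pow_mem_graded (M / n (e.symm i).1) (hg (e.symm i).1)
    rwa [smul_eq_mul, Nat.div_mul_cancel (hdvd _ (e.symm i).2)] at h2
  · rw [Proj.basicOpen_pow]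
    · exact hle _
    · exact Nat.div_pos (Nat.le_of_dvd hM (hdvd _ (e.symm i).2)) (hn _)
  · rw [eq_top_iff]
    intro x _
    obtain ⟨q, hq'⟩ := Set.mem_iUnion.1 (hs (Set.mem_univ x))
    obtain ⟨hqs, hxq⟩ := Set.mem_iUnion.1 hq'
    rw [Opens.mem_iSup]
    refine ⟨e ⟨q, hqs⟩, ?_⟩
    simp only [Equiv.symm_apply_apply]
    rw [Proj.basicOpen_pow]
    · exact hxq
    · exact Nat.div_pos (Nat.le_of_dvd hM (hdvd _ hqs)) (hn _)

end graded

theorem projSpace_cov (d : ℕ) (k : Type u) [CommRing k] (x : Proj (CohB1.polyGrading d k)) :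
    ∃ (n : ℕ) (g : MvPolynomial (Fin (d + 1)) k), 0 < n ∧ g ∈ CohB1.polyGrading d k n ∧
      x ∈ Proj.basicOpen (CohB1.polyGrading d k) g := by
  have h := Groth.Agent.PerfB.ProjSpaceCover.iSup_basicOpen_X d k
  have hx : x ∈ (⊤ : (Proj (CohB1.polyGrading d k)).Opens) := trivial
  rw [← h, Opens.mem_iSup] at hx
  obtain ⟨i, hi⟩ := hx
  exact ⟨1, _, one_pos, MvPolynomial.isHomogeneous_X _ i, hi⟩

theorem compactSpace_proj (d : ℕ) (R : Type u) [CommRing R] : CompactSpace (Proj (CohB1.polyGrading d R)) := by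
  refine ⟨?_⟩
  have h1 : (Set.univ : Set (Proj (CohB1.polyGrading d R))) =
      ⋃ i : Fin (d + 1), ((Proj.basicOpen (CohB1.polyGrading d R) (MvPolynomial.X i) :
        (Proj (CohB1.polyGrading d R)).Opens) : Set (Proj (CohB1.polyGrading d R))) := by
    rw [← Opens.coe_iSup, Groth.Agent.PerfB.ProjSpaceCover.iSup_basicOpen_X d R, Opens.coe_top]
  rw [h1]
  exact isCompact_iUnion fun i =>
    (Proj.isAffineOpen_basicOpen (CohB1.polyGrading d R) (MvPolynomial.X i) (MvPolynomial.isHomogeneous_X _ i)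
      one_pos).isCompact

/-- **N2 (forms on a projective scheme).**  A closed subscheme `Q` of `P^d` has, subordinate to any open cover, a finite
cover by affine opens `U j = {f_j ≠ 0}` (`f_j` forms of one common positive degree, whose opens cover `Q`), with ratio
functions `t i j = f_i / f_j` on `U j`. -/
theorem exists_ratios {k : Type u} [Field k] {Q : Scheme.{u}} {d : ℕ} (c : Q ⟶ CohB1.ProjSpace d k)
    [IsClosedImmersion c] (V : Q → Q.Opens) (hV : ∀ q, q ∈ V q) :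
    ∃ (r : ℕ) (U : Fin r → Q.Opens) (t : ∀ _ j : Fin r, Γ(Q, U j)),
      (⨆ i, U i = ⊤) ∧ (∀ i, IsAffineOpen (U i)) ∧ (∀ i, ∃ q, U i ≤ V q) ∧ (∀ i, t i i = 1) ∧
      (∀ i j, U i ⊓ U j = Q.basicOpen (t i j)) ∧
      (∀ i j l, Q.presheaf.map (homOfLE (inf_le_left : U j ⊓ U l ≤ U j)).op (t i j) =
        Q.presheaf.map (homOfLE (inf_le_right : U j ⊓ U l ≤ U l)).op (t i l) *
          Q.presheaf.map (homOfLE (inf_le_left : U j ⊓ U l ≤ U j)).op (t l j)) := by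
  have : CompactSpace (CohB1.ProjSpace d k) := compactSpace_proj d k
  have : CompactSpace Q := c.isClosedEmbedding.compactSpace
  obtain ⟨r, M, g, q, hM, hg, hle, hcov⟩ :=
    aux (𝒜 := CohB1.polyGrading d k) (c : Q ⟶ Proj (CohB1.polyGrading d k)) (projSpace_cov d k) V hV
  let c' : Q ⟶ Proj (CohB1.polyGrading d k) := c
  have : IsClosedImmersion c' := ‹IsClosedImmersion c›
  let D := fun i => Proj.basicOpen (CohB1.polyGrading d k) (g i)
  let φ : ∀ i j, Γ(Proj (CohB1.polyGrading d k), D j) := fun i j => frac (g i) (g j) ⟨M, hg i, hg j⟩ (D j) le_rfl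
  have hφ : ∀ i j l, (Proj (CohB1.polyGrading d k)).presheaf.map (homOfLE (inf_le_left : D j ⊓ D l ≤ D j)).op (φ i j) =
        (Proj (CohB1.polyGrading d k)).presheaf.map (homOfLE (inf_le_right : D j ⊓ D l ≤ D l)).op (φ i l) *
          (Proj (CohB1.polyGrading d k)).presheaf.map (homOfLE (inf_le_left : D j ⊓ D l ≤ D j)).op (φ l j) := by
    intro i j l
    change ores _ _ = ores _ _ * ores _ _
    rw [ores_frac, ores_frac, ores_frac, frac_mul _ _ _ _ _ _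
      ⟨M + M, SetLike.mul_mem_graded (hg _) (hg _), SetLike.mul_mem_graded (hg _) (hg _)⟩ _ _ _
      (by rw [Proj.basicOpen_mul]; exact le_inf inf_le_right inf_le_left)]
    exact frac_eq _ _ _ _ _ _ _ _ _ (by ring)
  refine ⟨r, fun i => c' ⁻¹ᵁ D i, fun i j => c'.app (D j) (φ i j), hcov, fun i => ?_, fun i => ⟨q i, hle i⟩,
    fun i => ?_, fun i j => ?_, fun i j l => ?_⟩
  · exact (Proj.isAffineOpen_basicOpen _ (g i) (hg i) hM).preimage c'
  · change c'.app (D i) (frac _ _ _ _ _) = 1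
    rw [frac_self, map_one]
  · rw [← Scheme.preimage_basicOpen]
    change _ = c' ⁻¹ᵁ (Proj _).basicOpen (frac _ _ _ _ _)
    rw [basicOpen_frac, inf_comm]
    rfl
  · have h := congrArg (c'.app (D j ⊓ D l)) (hφ i j l)
    rw [map_mul] at h
    have e1 : ∀ z : Γ(Proj (CohB1.polyGrading d k), D j),
        c'.app (D j ⊓ D l) ((Proj (CohB1.polyGrading d k)).presheaf.map
          (homOfLE (inf_le_left : D j ⊓ D l ≤ D j)).op z) =
        Q.presheaf.map (homOfLE (inf_le_left : c' ⁻¹ᵁ D j ⊓ c' ⁻¹ᵁ D l ≤ c' ⁻¹ᵁ D j)).op (c'.app (D j) z) :=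
      fun z => ConcreteCategory.congr_hom (c'.naturality (homOfLE (inf_le_left : D j ⊓ D l ≤ D j)).op) z
    have e2 : ∀ z : Γ(Proj (CohB1.polyGrading d k), D l),
        c'.app (D j ⊓ D l) ((Proj (CohB1.polyGrading d k)).presheaf.map
          (homOfLE (inf_le_right : D j ⊓ D l ≤ D l)).op z) =
        Q.presheaf.map (homOfLE (inf_le_right : c' ⁻¹ᵁ D j ⊓ c' ⁻¹ᵁ D l ≤ c' ⁻¹ᵁ D l)).op (c'.app (D l) z) :=
      fun z => ConcreteCategory.congr_hom (c'.naturality (homOfLE (inf_le_right : D j ⊓ D l ≤ D l)).op) z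
    rw [e1, e2, e1] at h
    exact h

end Groth.Agent.AlgGrp.K759.Ratios
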